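import Cfsg.Agent.Lib.Helper85.KS12.S2949Core
import Cfsg.Agent.Lib.Helper96.KS12.V3
import Cfsg.Agent.Lib.Helper11.ThompsonSylow

set_option autoImplicit false

/-!
# A fusion lemma controlled by `N_G(J(S))` (helper34, KS12, S2951 step (P3))

If `J(S)` centralizes `a` and `b = g a g⁻¹`, and `C_G(b) ≤ L ≥ N_G(J(S))`, then `g ∈ L`.
-/

namespace Cfsg.Agent.Lib.Helper34.KS12

open Cfsg

variable {G : Type*} [Group G]

theorem mem_of_conj_of_thompson_le [Finite G] (S : Sylow 2 G) (L : Subgroup G)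
    (hNJ : Subgroup.normalizer (thompsonSubgroupOf 2 (S : Subgroup G) : Set G) ≤ L)
    (a b g : G)
    (ha : thompsonSubgroupOf 2 (S : Subgroup G) ≤ Subgroup.centralizer ({a} : Set G))
    (hb : thompsonSubgroupOf 2 (S : Subgroup G) ≤ Subgroup.centralizer ({b} : Set G))
    (hbL : Subgroup.centralizer ({b} : Set G) ≤ L) (hg : g * a * g⁻¹ = b) : g ∈ L := by
  have : Fact (Nat.Prime 2) := ⟨Nat.prime_two⟩
  have hS2 : IsPGroup 2 ↥(S : Subgroup G) := S.isPGroup'
  have hJS : thompsonSubgroupOf 2 (S : Subgroup G) ≤ (S : Subgroup G) :=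
    Cfsg.Agent.Lib.Helper11.thompsonSubgroupOf_le 2 _
  have hJ2 : IsPGroup 2 ↥(thompsonSubgroupOf 2 (S : Subgroup G)) := hS2.to_le hJS
  -- a Sylow 2-subgroup `P` of `C(b)` containing `J`
  obtain ⟨P, hP, hJP⟩ := Cfsg.Agent.Lib.Helper85.KS12.exists_isSylowTwoIn_ge hJ2 hb
  -- `J^g ≤ C(b)`
  have hJg2 : IsPGroup 2 ↥((thompsonSubgroupOf 2 (S : Subgroup G)).map
      (MulAut.conj g).toMonoidHom) := hJ2.map _
  have hJgC : (thompsonSubgroupOf 2 (S : Subgroup G)).map (MulAut.conj g).toMonoidHom ≤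
      Subgroup.centralizer ({b} : Set G) := by
    rintro _ ⟨x, hx, rfl⟩
    rw [Subgroup.mem_centralizer_iff]
    intro t ht
    rw [Set.mem_singleton_iff] at ht
    subst ht
    have hxa : a * x = x * a := Subgroup.mem_centralizer_iff.mp (ha hx) a (Set.mem_singleton a)
    simp only [MulEquiv.toMonoidHom_eq_coe, MonoidHom.coe_coe, MulAut.conj_apply]
    rw [← hg]
    have e1 : g * a * g⁻¹ * (g * x * g⁻¹) = g * (a * x) * g⁻¹ := by group
    have e2 : g * x * g⁻¹ * (g * a * g⁻¹) = g * (x * a) * g⁻¹ := by group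
    rw [e1, e2, hxa]
  obtain ⟨c, hc, hcP⟩ := Cfsg.Agent.Lib.Helper96.KS12.exists_conj_le_of_isSylowTwoIn hP hJg2 hJgC
  -- `J^{cg} ≤ P`
  have hmap : ((thompsonSubgroupOf 2 (S : Subgroup G)).map (MulAut.conj g).toMonoidHom).map
      (MulAut.conj c).toMonoidHom =
      (thompsonSubgroupOf 2 (S : Subgroup G)).map (MulAut.conj (c * g)).toMonoidHom := by
    rw [Subgroup.map_map]
    congr 1
    ext x
    simp [mul_assoc]
  rw [hmap] at hcP
  have h1 : thompsonSubgroupOf 2 P = thompsonSubgroupOf 2 (S : Subgroup G) :=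
    Cfsg.Agent.Lib.Helper11.thompsonSubgroupOf_eq_of_le_pGroup S hP.2.1 hJP
  have h2 : thompsonSubgroupOf 2 ((((c * g) • S : Sylow 2 G)) : Subgroup G) =
      (thompsonSubgroupOf 2 (S : Subgroup G)).map (MulAut.conj (c * g)).toMonoidHom :=
    Cfsg.Agent.Lib.Helper11.thompsonSubgroupOf_smul (c * g) S
  have h3 : thompsonSubgroupOf 2 P =
      thompsonSubgroupOf 2 ((((c * g) • S : Sylow 2 G)) : Subgroup G) :=
    Cfsg.Agent.Lib.Helper11.thompsonSubgroupOf_eq_of_le_pGroup ((c * g) • S) hP.2.1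
      (by rw [h2]; exact hcP)
  have h4 : (thompsonSubgroupOf 2 (S : Subgroup G)).map (MulAut.conj (c * g)).toMonoidHom =
      thompsonSubgroupOf 2 (S : Subgroup G) := by
    rw [← h2, ← h3, h1]
  have h5 : c * g ∈ L := hNJ (Cfsg.Agent.Lib.Helper11.mem_normalizer_of_map_conj_eq h4)
  have h6 : c ∈ L := hbL hc
  have : g = c⁻¹ * (c * g) := by group
  rw [this]
  exact L.mul_mem (L.inv_mem h6) h5

end Cfsg.Agent.Lib.Helper34.KS12
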