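import Cfsg.Agent.Lib.Helper34.KS12.UAbs
import Cfsg.Agent.Lib.Helper34.KS12.Fus
import Cfsg.Agent.Lib.Helper86.KS12.Step56
import Cfsg.Agent.Lib.Helper81.KS12.S2950Core
import Cfsg.Agent.Lib.Helper76.KS12.WSys
import Cfsg.Agent.Lib.Helper41.KS12.Dich
import Cfsg.Agent.Lib.Helper86.KS12.Count
import Cfsg.Agent.Lib.Helper48.KS12.Sigma
import Cfsg.Agent.Lib.Helper2.KS12.PZ
import Cfsg.Agent.Lib.Helper71.JC.JCZ
import Cfsg.Agent.Lib.Helper11.ThompsonSylow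
import Cfsg.Agent.Lib.Helper55.JComp
import Cfsg.Agent.S2946

set_option autoImplicit false

/-!
# S2951, case (U) with at least two `J(S)`-components in `L`: contradiction (helper34, KS12)
-/

namespace Cfsg.Agent.Lib.Helper34.KS12

open Cfsg

variable {G : Type*} [Group G]

/-- The index type of the `J(T)`-components inside `L`. -/
abbrev CompIdx (T L : Subgroup G) := {K : Subgroup G // IsJComponent T K ∧ K ≤ L}

/-- The four-groups attached to the `J(T)`-components inside `L`. -/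
abbrev wsys (T L : Subgroup G) : CompIdx T L → Subgroup G := fun i => wOf i.1

instance compIdx_finite [Finite G] (T L : Subgroup G) : Finite (CompIdx T L) :=
  Finite.of_injective (fun i : CompIdx T L => ((i.1 : Subgroup G) : Set G))
    (fun _ _ h => Subtype.ext (SetLike.coe_injective h))

theorem eq_of_card_two {H : Subgroup G} (h : Nat.card H = 2) {x y : G} (hx : x ∈ H) (hy : y ∈ H)
    (hx1 : x ≠ 1) (hy1 : y ≠ 1) : x = y := by
  obtain ⟨a, b, hab, huniv⟩ := Nat.card_eq_two_iff.mp h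
  have mem : ∀ t : H, t = a ∨ t = b := fun t => by
    have : t ∈ ({a, b} : Set H) := by rw [huniv]; trivial
    simpa using this
  have hx1' : (⟨x, hx⟩ : H) ≠ 1 := fun h => hx1 (congrArg Subtype.val h)
  have hy1' : (⟨y, hy⟩ : H) ≠ 1 := fun h => hy1 (congrArg Subtype.val h)
  have key : (⟨x, hx⟩ : H) = ⟨y, hy⟩ := by
    rcases mem ⟨x, hx⟩ with h1 | h1 <;> rcases mem ⟨y, hy⟩ with h2 | h2 <;>
      rcases mem 1 with h3 | h3
    · rw [h1, h2]
    · rw [h1, h2]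
    · exact absurd (h1.trans h3.symm) hx1'
    · exact absurd (h2.trans h3.symm) hy1'
    · exact absurd (h2.trans h3.symm) hy1'
    · exact absurd (h1.trans h3.symm) hx1'
    · rw [h1, h2]
    · rw [h1, h2]
  exact congrArg Subtype.val key

theorem centralizer_singleton_le_normalizer_zpowers (y : G) :
    Subgroup.centralizer ({y} : Set G) ≤ Subgroup.normalizer (Subgroup.zpowers y : Set G) := by
  intro g hg
  have hgy : g * y = y * g := (Subgroup.mem_centralizer_iff.mp hg y (Set.mem_singleton y)).symm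
  have hconj : g * y * g⁻¹ = y := by rw [hgy]; group
  rw [Subgroup.mem_normalizer_iff]
  intro x
  have hz : ∀ n : ℤ, g * y ^ n * g⁻¹ = y ^ n := by
    intro n
    have : g * y ^ n * g⁻¹ = (g * y * g⁻¹) ^ n := by
      rw [conj_zpow]
    rw [this, hconj]
  constructor
  · intro hx
    obtain ⟨n, rfl⟩ := Subgroup.mem_zpowers_iff.mp hx
    rw [hz n]
    exact Subgroup.zpow_mem_zpowers y n
  · intro hx
    obtain ⟨n, hn⟩ := Subgroup.mem_zpowers_iff.mp hx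
    have : x = y ^ n := by
      have h1 : x = g⁻¹ * (g * x * g⁻¹) * g := by group
      rw [h1, ← hn]
      calc g⁻¹ * y ^ n * g = g⁻¹ * (g * y ^ n * g⁻¹) * g := by rw [hz n]
        _ = y ^ n := by group
    rw [this]
    exact Subgroup.zpow_mem_zpowers y n

theorem isTwoLocal_normalizer_zpowers {y : G} (hy1 : y ≠ 1) (hy2 : y ^ 2 = 1) :
    IsTwoLocal (Subgroup.normalizer (Subgroup.zpowers y : Set G)) := by
  refine ⟨Subgroup.zpowers y, ?_, ?_, rfl⟩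
  · intro g
    refine ⟨1, ?_⟩
    obtain ⟨n, hn⟩ := Subgroup.mem_zpowers_iff.mp g.2
    apply Subtype.ext
    simp only [pow_one, Subgroup.coe_pow, Subgroup.coe_one]
    rw [← hn, ← zpow_natCast, ← zpow_mul, mul_comm, zpow_mul, zpow_natCast, hy2, one_zpow]
  · intro h
    apply hy1
    have : y ∈ Subgroup.zpowers y := Subgroup.mem_zpowers y
    rw [h] at this
    exact Subgroup.mem_bot.mp this

theorem comm_of_conj_eq {a x : G} (h : a * x * a⁻¹ = x) : a * x = x * a := by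
  have : a * x = a * x * a⁻¹ * a := by group
  rw [this, h]

theorem conj_ne_one {a x : G} (h : x ≠ 1) : a * x * a⁻¹ ≠ 1 := by
  intro h1
  apply h
  have : x = a⁻¹ * (a * x * a⁻¹) * a := by group
  rw [this, h1]
  group

/-- **Step 5.** In case (U) (every 2-local containing `S` lies in `L`), two distinct
`J(S)`-components inside `L` are impossible. -/
theorem step5 [Finite G] (hL : Cfsg.IsCharacteristicTwoType G)
    (hN : ∀ N : Subgroup G, Cfsg.IsTwoLocal N → Group.IsSolvable ↥N)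
    (hZ : ∀ S : Sylow 2 G, Subgroup.centralizer (Cfsg.omegaCenterOf (S : Subgroup G) : Set G) ≤
      Subgroup.normalizer ((S : Subgroup G) : Set G))
    (hComm : Cfsg.Agent.Lib.Helper81.KS12.JCompCentralize G)
    (S : Sylow 2 G) (L : Subgroup G)
    (hLS : L ∈ jOvergroups (S : Subgroup G))
    (hGen : Cfsg.Agent.Lib.Helper85.KS12.GenByJComponents (S : Subgroup G) L)
    (hU : ∀ N : Subgroup G, IsTwoLocal N → (S : Subgroup G) ≤ N → N ≤ L)
    (hR : ∀ K : Subgroup G, IsJComponent (S : Subgroup G) K → K ≤ L → ∀ L' : Subgroup G,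
      IsMaximalTwoLocal L' → K ⊔ thompsonSubgroupOf 2 (S : Subgroup G) ≤ L' → L' = L)
    (K₁ K₂ : Subgroup G) (hK₁ : IsJComponent (S : Subgroup G) K₁) (hK₁L : K₁ ≤ L)
    (hK₂ : IsJComponent (S : Subgroup G) K₂) (hK₂L : K₂ ≤ L) (hne : K₁ ≠ K₂)
    (T' K' L' : Subgroup G) (hT' : IsPGroup 2 ↥T') (hT'1 : T' ≠ ⊥)
    (hT'S : T' ≤ (S : Subgroup G)) (hT'L : T' ≤ L)
    (hK' : IsJComponent T' K') (hK'L : ¬ K' ≤ L) (hL'max : IsMaximalTwoLocal L')
    (hT'L' : IsSylowTwoIn T' L')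
    (hZL' : omegaCenterOf (S : Subgroup G) ≤ pCoreOf 2 L')
    (hcard : Nat.card ↥(omegaCenterOf (thompsonSubgroupOf 2 T')) ≤ 4) : False := by
  classical
  have : Fact (Nat.Prime 2) := ⟨Nat.prime_two⟩
  have hS2 : IsPGroup 2 ↥(S : Subgroup G) := S.isPGroup'
  have hLS' := hLS
  obtain ⟨hSylL, hJnot, hCQ⟩ := hLS
  obtain ⟨J, hJdef⟩ : ∃ J : Subgroup G, J = thompsonSubgroupOf 2 (S : Subgroup G) := ⟨_, rfl⟩
  rw [← hJdef] at hJnot hR
  obtain ⟨Z₀, hZ₀def⟩ : ∃ Z₀ : Subgroup G, Z₀ = omegaCenterOf J := ⟨_, rfl⟩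
  have hJS : J ≤ (S : Subgroup G) := hJdef ▸ Cfsg.Agent.Lib.Helper11.thompsonSubgroupOf_le 2 _
  have hSL : (S : Subgroup G) ≤ L := hSylL.1
  have hJ1 : J ≠ ⊥ := fun h => hJnot (h ▸ bot_le)
  have hS1 : (S : Subgroup G) ≠ ⊥ := fun h => hJ1 (le_bot_iff.mp (h ▸ hJS))
  have hJ2 : IsPGroup 2 ↥J := hS2.to_le hJS
  have hSNJ : (S : Subgroup G) ≤ Subgroup.normalizer (J : Set G) := by
    rw [hJdef]
    exact Subgroup.le_normalizer.trans
      (Cfsg.Agent.Lib.Helper11.normalizer_le_normalizer_thompsonSubgroupOf 2 _)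
  have hNJ : Subgroup.normalizer (J : Set G) ≤ L := hU _ ⟨J, hJ2, hJ1, rfl⟩ hSNJ
  have hZ₀J : Z₀ ≤ J := hZ₀def ▸ Cfsg.Agent.Lib.Helper2.KS12.omegaCenterOf_le J
  -- `S` normalizes `Z₀`
  have hSZ₀ : ∀ s ∈ (S : Subgroup G), ∀ x ∈ Z₀, s * x * s⁻¹ ∈ Z₀ := by
    intro s hs x hx
    have h1 : J.map (MulAut.conj s).toMonoidHom = J :=
      Cfsg.Agent.Lib.Helper11.map_conj_eq_of_mem_normalizer (hSNJ hs)
    have h2 := Cfsg.Agent.Lib.Helper81.KS12.omegaCenterOf_map (MulAut.conj s) J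
    rw [h1, ← hZ₀def] at h2
    rw [h2]
    exact ⟨x, hx, by simp⟩
  have hJcent : ∀ y' ∈ Z₀, J ≤ Subgroup.centralizer ({y'} : Set G) := by
    intro y' hy' x hx
    rw [Subgroup.mem_centralizer_iff]
    intro t ht
    rw [Set.mem_singleton_iff] at ht
    subst ht
    have h1 : t ∈ Subgroup.centralizer (J : Set G) :=
      Cfsg.Agent.Lib.Helper2.KS12.omegaCenterOf_le_centralizer J (hZ₀def ▸ hy')
    exact (Subgroup.mem_centralizer_iff.mp h1 x hx).symm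
  have hZ₀sq : ∀ y' ∈ Z₀, y' ^ 2 = 1 := fun y' hy' =>
    Cfsg.Agent.Lib.Helper2.KS12.omegaCenterOf_sq J (hZ₀def ▸ hy')
  -- the W-system
  obtain ⟨hW4, hW2, hWcomm, hcent, hnorm, htrans, hind⟩ :=
    Cfsg.Agent.Lib.Helper76.KS12.wsys_basic hComm hS2 hS1 hLS'
  have hperm := Cfsg.Agent.Lib.Helper76.KS12.wsys_perm hComm hS2 hS1 hLS' hGen
  have hW1 : ∀ i : CompIdx (S : Subgroup G) L, wsys (S : Subgroup G) L i ≠ ⊥ := by
    intro i h
    have h4 := hW4 i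
    have : wOf i.1 = ⊥ := h
    rw [this] at h4
    simp at h4
  let _ : Fintype (CompIdx (S : Subgroup G) L) := Fintype.ofFinite _
  -- the distinguished elements `z i`
  have hcard2 : ∀ i : CompIdx (S : Subgroup G) L, Nat.card ↥(Z₀ ⊓ wOf i.1) = 2 := fun i =>
    (Cfsg.Agent.S2946.result hL hN hZ (S : Subgroup G) hS2 hS1 i.1 i.2.1 Z₀
      (by rw [hZ₀def, hJdef])).1
  have hzex : ∀ i : CompIdx (S : Subgroup G) L, ∃ x : G, x ∈ Z₀ ⊓ wOf i.1 ∧ x ≠ 1 := by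
    intro i
    by_contra hcon
    push Not at hcon
    have hbot : Z₀ ⊓ wOf i.1 = ⊥ := (Subgroup.eq_bot_iff_forall _).mpr hcon
    have h2 := hcard2 i
    rw [hbot] at h2
    simp at h2
  choose zG hzG using hzex
  let z : ∀ i : CompIdx (S : Subgroup G) L, wsys (S : Subgroup G) L i :=
    fun i => ⟨zG i, (hzG i).1.2⟩
  have hzZ : ∀ i, (z i : G) ∈ Z₀ := fun i => (hzG i).1.1
  have hz1 : ∀ i, z i ≠ 1 := fun i h => (hzG i).2 (congrArg Subtype.val h)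
  have hz1' : ∀ i, (z i : G) ≠ 1 := fun i => (hzG i).2
  have huniq : ∀ i, ∀ x ∈ Z₀, x ∈ wsys (S : Subgroup G) L i → x ≠ 1 → x = (z i : G) :=
    fun i x hxZ hxW hx1 => eq_of_card_two (hcard2 i) ⟨hxZ, hxW⟩ (hzG i).1 hx1 (hzG i).2
  -- the `S`-invariant element `y`
  obtain ⟨y, hydef⟩ : ∃ y : G, y = coord (wsys (S : Subgroup G) L) hWcomm z := ⟨_, rfl⟩
  have hyinv : ∀ s ∈ (S : Subgroup G), s * y * s⁻¹ = y := fun s hs => by
    rw [hydef]
    exact coord_conj_invariant (wsys (S : Subgroup G) L) hWcomm hind hW1 Z₀ z hzZ hz1 huniq s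
      (hperm s (hSL hs)) (hSZ₀ s hs)
  have hyZ₀ : y ∈ Z₀ := hydef ▸ coord_mem_of _ _ Z₀ z hzZ
  have hyU : y ∈ ⨆ i, wsys (S : Subgroup G) L i := hydef ▸ coord_mem _ _ z
  have hy1 : y ≠ 1 := by
    intro h
    have hz : z = 1 := coord_injective _ hWcomm hind (by rw [← hydef, h, map_one])
    exact hz1 ⟨K₁, hK₁, hK₁L⟩ (congrFun hz _)
  have hy2 : y ^ 2 = 1 := hZ₀sq y hyZ₀
  have hScent : (S : Subgroup G) ≤ Subgroup.centralizer ({y} : Set G) := by
    intro s hs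
    rw [Subgroup.mem_centralizer_iff]
    intro t ht
    rw [Set.mem_singleton_iff] at ht
    subst ht
    exact (comm_of_conj_eq (hyinv s hs)).symm
  have hB : Subgroup.centralizer ({y} : Set G) ≤ L :=
    (centralizer_singleton_le_normalizer_zpowers y).trans
      (hU _ (isTwoLocal_normalizer_zpowers hy1 hy2)
        (hScent.trans (centralizer_singleton_le_normalizer_zpowers y)))
  have hA : ∀ (j : CompIdx (S : Subgroup G) L) (y' : G), y' ∈ Z₀ → y' ≠ 1 →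
      (∀ k ∈ j.1, k * y' * k⁻¹ = y') → Subgroup.centralizer ({y'} : Set G) ≤ L := by
    intro j y' hy'Z hy'1 hk
    obtain ⟨L'', hL''max, hL''⟩ := Cfsg.Agent.Lib.Helper81.KS12.exists_isMaximalTwoLocal_ge
      (isTwoLocal_normalizer_zpowers hy'1 (hZ₀sq y' hy'Z))
    have hKJ : j.1 ⊔ J ≤ L'' := by
      refine le_trans ?_ ((centralizer_singleton_le_normalizer_zpowers y').trans hL'')
      apply sup_le
      · intro k hk'
        rw [Subgroup.mem_centralizer_iff]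
        intro t ht
        rw [Set.mem_singleton_iff] at ht
        subst ht
        exact (comm_of_conj_eq (hk k hk')).symm
      · exact hJcent y' hy'Z
    have hLL := hR j.1 j.2.1 j.2.2 L'' hL''max hKJ
    rw [← hLL]
    exact (centralizer_singleton_le_normalizer_zpowers y').trans hL''
  have hNF : ∀ u ∈ ⨆ i, wsys (S : Subgroup G) L i, u ≠ 1 → ∃ l ∈ L, ∃ y' ∈ Z₀, y' ≠ 1 ∧
      y' ∈ ⨆ i, wsys (S : Subgroup G) L i ∧ l * u * l⁻¹ = y' ∧
      Subgroup.centralizer ({y'} : Set G) ≤ L := fun u hu hu1 =>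
    exists_normal_form (wsys (S : Subgroup G) L) hWcomm hind (fun i => i.1) L (fun i => i.2.2)
      hnorm hcent htrans Z₀ z hzZ hz1 hA (hydef ▸ hB) u hu hu1
  have hP2 : ∀ u ∈ ⨆ i, wsys (S : Subgroup G) L i, u ≠ 1 →
      Subgroup.centralizer ({u} : Set G) ≤ L := fun u hu hu1 =>
    centralizer_le_of_normal_form (wsys (S : Subgroup G) L) L Z₀ u (hNF u hu hu1)
  have hP3 : ∀ u ∈ ⨆ i, wsys (S : Subgroup G) L i, u ≠ 1 → ∀ g : G,
      g * u * g⁻¹ ∈ ⨆ i, wsys (S : Subgroup G) L i → g ∈ L := by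
    intro u hu hu1 g hgu
    obtain ⟨l₁, hl₁, a, haZ, ha1, -, hla, -⟩ := hNF u hu hu1
    obtain ⟨l₂, hl₂, b, hbZ, hb1, -, hlb, hbL⟩ := hNF _ hgu (conj_ne_one hu1)
    have key : (l₂ * g * l₁⁻¹) * a * (l₂ * g * l₁⁻¹)⁻¹ = b := by
      rw [← hla, ← hlb]
      group
    have hmem := mem_of_conj_of_thompson_le S L (hJdef ▸ hNJ) a b (l₂ * g * l₁⁻¹)
      (hJdef ▸ hJcent a haZ) (hJdef ▸ hJcent b hbZ) hbL key
    have : g = l₂⁻¹ * (l₂ * g * l₁⁻¹) * l₁ := by group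
    rw [this]
    exact L.mul_mem (L.mul_mem (L.inv_mem hl₂) hmem) hl₁
  have hsys : Cfsg.Agent.Lib.Helper41.KS12.DichSys (wsys (S : Subgroup G) L) L :=
    ⟨hW4, hW2, hWcomm, hind, hperm, hP2, hP3⟩
  have hi12 : (⟨K₁, hK₁, hK₁L⟩ : CompIdx (S : Subgroup G) L) ≠ ⟨K₂, hK₂, hK₂L⟩ :=
    fun h => hne (congrArg Subtype.val h)
  have hk : ∃ i j : CompIdx (S : Subgroup G) L, i ≠ j := ⟨_, _, hi12⟩
  -- `y ∈ Ω₁(Z(S))`
  have hyZS : y ∈ omegaCenterOf (S : Subgroup G) := by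
    apply Cfsg.Agent.Lib.Helper2.KS12.mem_omegaCenterOf (hJS (hZ₀J hyZ₀)) _ hy2
    rw [Subgroup.mem_centralizer_iff]
    intro s hs
    exact comm_of_conj_eq (hyinv s hs)
  -- 5.4: `U ≤ T'`
  have hUT' : (⨆ i, wsys (S : Subgroup G) L i) ≤ T' := by
    have hc : ∀ n ∈ L', ∀ a ∈ ⨆ i, wsys (S : Subgroup G) L i,
        ∀ b ∈ ⨆ i, wsys (S : Subgroup G) L i, a * (n * b * n⁻¹) = (n * b * n⁻¹) * a := by
      intro n hn a ha b hb
      by_cases hnL : n ∈ L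
      · exact hsys.sup_comm a ha _ (hsys.sup_norm n hnL b hb)
      · refine Cfsg.Agent.Lib.Helper41.KS12.dich (wsys (S : Subgroup G) L) L hW4 hW2 hWcomm hind
          hk hperm hP2 hP3 n hnL y hyU hy1 ?_ a ha b hb
        have h1 : y ∈ pCoreOf 2 L' := hZL' hyZS
        have h2 : n * y * n⁻¹ ∈ pCoreOf 2 L' :=
          Cfsg.Agent.Lib.Helper71.JC.conj_mem_of_mem_normalizer
            (Cfsg.Agent.Lib.Helper55.JComp.le_normalizer_pCoreOf L' hn) h1
        exact hT'L (Cfsg.Agent.Lib.Helper2.KS12.pCoreOf_le_of_isSylowTwoIn hT'L' h2)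
    have hU1 : (⨆ i, wsys (S : Subgroup G) L i) ≠ ⊥ := by
      intro h
      rw [h] at hyU
      exact hy1 (Subgroup.mem_bot.mp hyU)
    exact (Cfsg.Agent.Lib.Helper48.KS12.le_pCoreOf_of_conj_comm _ L' hL'max hU1 hsys.sup_sq
      hc).trans (Cfsg.Agent.Lib.Helper2.KS12.pCoreOf_le_of_isSylowTwoIn hT'L')
  -- 5.5 + 5.6
  have hAz : ∀ A ∈ Cfsg.Agent.Lib.Helper11.maxElemAbIn 2 T', ∀ a ∈ A,
      ∀ i : CompIdx (S : Subgroup G) L, a * (z i : G) = (z i : G) * a := by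
    intro A hA a ha i
    obtain ⟨hAT', hAel, hAmax⟩ := hA
    have hA2 : ∀ a ∈ A, a * a = 1 := fun a ha => by
      have := hAel.2 a ha
      rwa [pow_two] at this
    have hAc : ∀ a ∈ A, ∀ b ∈ A, a * b = b * a := fun a ha b hb => by
      have := hAel.1.is_comm.comm (⟨a, ha⟩ : A) ⟨b, hb⟩
      exact congrArg Subtype.val this
    have hmax : ∀ B : Subgroup G, B ≤ T' → (∀ b ∈ B, b * b = 1) →
        (∀ a ∈ B, ∀ b ∈ B, a * b = b * a) → Nat.card ↥B ≤ Nat.card ↥A := by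
      intro B hB h2 hc
      apply hAmax B hB
      refine ⟨⟨⟨fun a b => Subtype.ext (hc a.1 a.2 b.1 b.2)⟩⟩, fun b hb => ?_⟩
      rw [pow_two]
      exact h2 b hb
    have hcount := Cfsg.Agent.Lib.Helper86.KS12.count (wsys (S : Subgroup G) L) hW4 hW2 hWcomm
      hind T' A (fun i => (le_iSup (wsys (S : Subgroup G) L) i).trans hUT') hAT' hA2 hAc hmax
      (fun a ha i => hperm a (hT'L (hAT' ha)) i)
    have h1 : a * (z i : G) * a⁻¹ ∈ wsys (S : Subgroup G) L i := by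
      have hm : a * (z i : G) * a⁻¹ ∈
          (wsys (S : Subgroup G) L i).map (MulAut.conj a).toMonoidHom :=
        ⟨_, (z i).2, by simp⟩
      rwa [hcount a ha i] at hm
    have h2 : a * (z i : G) * a⁻¹ ∈ Z₀ := hSZ₀ a (hT'S (hAT' ha)) _ (hzZ i)
    have h3 : a * (z i : G) * a⁻¹ = z i := huniq i _ h2 h1 (conj_ne_one (hz1' i))
    exact comm_of_conj_eq h3
  -- the end
  have hzU : ∀ i, (z i : G) ∈ ⨆ i, wsys (S : Subgroup G) L i := fun i =>
    (le_iSup (wsys (S : Subgroup G) L) i) (z i).2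
  have hzsq : ∀ i, (z i : G) * (z i : G) = 1 := fun i => hW2 i _ (z i).2
  have hz12 : (z ⟨K₁, hK₁, hK₁L⟩ : G) ≠ (z ⟨K₂, hK₂, hK₂L⟩ : G) := by
    intro h
    have hd : Disjoint (wsys (S : Subgroup G) L ⟨K₁, hK₁, hK₁L⟩)
        (wsys (S : Subgroup G) L ⟨K₂, hK₂, hK₂L⟩) := hind.pairwiseDisjoint hi12
    have hmem : (z ⟨K₁, hK₁, hK₁L⟩ : G) ∈ wsys (S : Subgroup G) L ⟨K₁, hK₁, hK₁L⟩ ⊓
        wsys (S : Subgroup G) L ⟨K₂, hK₂, hK₂L⟩ :=
      ⟨(z ⟨K₁, hK₁, hK₁L⟩).2, h ▸ (z ⟨K₂, hK₂, hK₂L⟩).2⟩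
    rw [hd.eq_bot] at hmem
    exact hz1' _ (Subgroup.mem_bot.mp hmem)
  obtain ⟨y', hy'U, hy'1, hK'y⟩ := Cfsg.Agent.Lib.Helper86.KS12.step56 hL hN hZ T' K' hT' hT'1 hK' hcard
    (⨆ i, wsys (S : Subgroup G) L i) (z ⟨K₁, hK₁, hK₁L⟩ : G) (z ⟨K₂, hK₂, hK₂L⟩ : G)
    (hzU _) (hzU _) (hUT' (hzU _)) (hUT' (hzU _)) (hz1' _) (hz1' _) hz12 (hzsq _) (hzsq _)
    (fun A hA a ha => hAz A hA a ha _) (fun A hA a ha => hAz A hA a ha _)
  exact hK'L (hK'y.trans (hP2 y' hy'U hy'1))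

end Cfsg.Agent.Lib.Helper34.KS12
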