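import Cfsg.Agent.Lib.Helper34.KS12.Step5
import Cfsg.Agent.Lib.Helper72.KS12.Step4
import Cfsg.Agent.Lib.Helper81.KS12.Straddle
import Cfsg.Agent.Lib.Helper2.KS12.V4
import Cfsg.Agent.Lib.Helper23.KS12.V5
import Cfsg.Agent.Lib.Helper85.KS12.HCommClosed
import Cfsg.Agent.Lib.Helper15.KS12.FF23
import Cfsg.Agent.S2948
import Cfsg.Agent.S2949
import Cfsg.Agent.S2950

set_option autoImplicit false

/-!
# S2951 in the case `T = S` and (U): every 2-local containing `S` lies in `L` (helper34, KS12)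
-/

namespace Cfsg.Agent.Lib.Helper34.KS12

open Cfsg

variable {G : Type*} [Group G]

/-- Remark R (helper23): for a Sylow 2-subgroup `S` and a maximal 2-local `L ∈ jOvergroups S`,
`L` is the only maximal 2-local containing `K ⊔ J(S)`, for every `J(S)`-component `K ≤ L`. -/
theorem remarkR [Finite G] (hL : Cfsg.IsCharacteristicTwoType G)
    (hN : ∀ N : Subgroup G, Cfsg.IsTwoLocal N → Group.IsSolvable ↥N)
    (hZ : ∀ S : Sylow 2 G, Subgroup.centralizer (Cfsg.omegaCenterOf (S : Subgroup G) : Set G) ≤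
      Subgroup.normalizer ((S : Subgroup G) : Set G))
    (hO : Cfsg.pCore 2 G = ⊥)
    (S : Sylow 2 G) (L : Subgroup G) (hLmax : IsMaximalTwoLocal L)
    (hLS : L ∈ jOvergroups (S : Subgroup G))
    (K : Subgroup G) (hK : IsJComponent (S : Subgroup G) K) (hKL : K ≤ L)
    (L' : Subgroup G) (hL' : IsMaximalTwoLocal L')
    (hKL' : K ⊔ thompsonSubgroupOf 2 (S : Subgroup G) ≤ L') : L' = L := by
  have : Fact (Nat.Prime 2) := ⟨Nat.prime_two⟩
  have hS2 : IsPGroup 2 ↥(S : Subgroup G) := S.isPGroup'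
  obtain ⟨hSylL, hJnot, hCQ⟩ := hLS
  have hSL : (S : Subgroup G) ≤ L := hSylL.1
  have hJS : thompsonSubgroupOf 2 (S : Subgroup G) ≤ (S : Subgroup G) :=
    Cfsg.Agent.Lib.Helper11.thompsonSubgroupOf_le 2 _
  have hJ1 : thompsonSubgroupOf 2 (S : Subgroup G) ≠ ⊥ := fun h => hJnot (h ▸ bot_le)
  have hS1 : (S : Subgroup G) ≠ ⊥ := fun h => hJ1 (le_bot_iff.mp (h ▸ hJS))
  have hJ2 : IsPGroup 2 ↥(thompsonSubgroupOf 2 (S : Subgroup G)) := hS2.to_le hJS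
  have hLN : ¬ L ≤ Subgroup.normalizer (thompsonSubgroupOf 2 (S : Subgroup G) : Set G) :=
    fun h => hJnot (Cfsg.Agent.Lib.Helper85.KS12.le_pCoreOf_of_normal hJ2 (hJS.trans hSL) h)
  have hQ2 : IsPGroup 2 ↥(pCoreOf 2 L) := Cfsg.Agent.Lib.Helper2.KS12.pCoreOf_two_isPGroup L
  have hQS : pCoreOf 2 L ≤ (S : Subgroup G) :=
    Cfsg.Agent.Lib.Helper2.KS12.pCoreOf_le_of_isSylowTwoIn hSylL
  have hKS : pCoreOf 2 (K ⊔ (S : Subgroup G)) ≠ ⊥ := by
    intro h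
    have h1 : pCoreOf 2 L ≤ pCoreOf 2 (K ⊔ (S : Subgroup G)) :=
      Cfsg.Agent.Lib.Helper85.KS12.le_pCoreOf_of_normal hQ2 (hQS.trans le_sup_right)
        ((sup_le hKL hSL).trans (Cfsg.Agent.Lib.Helper55.JComp.le_normalizer_pCoreOf L))
    rw [h] at h1
    exact Cfsg.Agent.Lib.Helper23.KS12.pCoreOf_ne_bot_of_isTwoLocal hLmax.1 (le_bot_iff.mp h1)
  have hSmax := Cfsg.Agent.Lib.Helper23.KS12.sylow_mem_maxStraddling S hS1 hLmax.1 hSL hLN
  have hKout := Cfsg.Agent.Lib.Helper23.KS12.mem_jComponentsOutside S hK hKS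
  obtain ⟨L₀, -, -, huniq, -, -⟩ := Cfsg.Agent.S2950.result hL hN hZ hO S
    (Subgroup.normalizer (thompsonSubgroupOf 2 (S : Subgroup G) : Set G))
    ⟨thompsonSubgroupOf 2 (S : Subgroup G), hJ2, hJ1, rfl⟩ le_rfl (S : Subgroup G) hSmax K hKout
  rw [huniq L' hL' hKL', huniq L hLmax (sup_le hKL (hJS.trans hSL))]

/-- S2951 when `T = S` and every 2-local subgroup containing `S` lies in `L`. -/
theorem s2951_of_eq_of_U [Finite G] (hL : Cfsg.IsCharacteristicTwoType G)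
    (hN : ∀ N : Subgroup G, Cfsg.IsTwoLocal N → Group.IsSolvable ↥N)
    (hZ : ∀ S : Sylow 2 G, Subgroup.centralizer (Cfsg.omegaCenterOf (S : Subgroup G) : Set G) ≤
      Subgroup.normalizer ((S : Subgroup G) : Set G))
    (hO : Cfsg.pCore 2 G = ⊥) (S : Sylow 2 G) (M : Subgroup G) (hM : Cfsg.IsTwoLocal M)
    (hMJ : Subgroup.normalizer (Cfsg.thompsonSubgroupOf 2 (S : Subgroup G) : Set G) ≤ M)
    (T : Subgroup G) (hT : T ∈ Cfsg.maxStraddlingTwoSubgroups M)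
    (hTS : T = (S : Subgroup G)) (K : Subgroup G) (hK : K ∈ Cfsg.jComponentsOutside M T)
    (L : Subgroup G) (hLmax : Cfsg.IsMaximalTwoLocal L)
    (hKL : K ⊔ Cfsg.thompsonSubgroupOf 2 T ≤ L)
    (Z Z₀ : Subgroup G) (hZdef : Z = Cfsg.omegaCenterOf (S : Subgroup G))
    (hZ₀ : Z₀ = Cfsg.omegaCenterOf (Cfsg.thompsonSubgroupOf 2 T))
    (hU : ∀ N : Subgroup G, IsTwoLocal N → (S : Subgroup G) ≤ N → N ≤ L) :
    Z₀ ⊓ Cfsg.wOf K ≠ ⊥ ∧
      ((Z = Z₀ ∧ Nat.card ↥Z₀ = 2) ∨ (Z = Z₀ ∧ Nat.card ↥Z₀ = 4 ∧ T = (S : Subgroup G)) ∨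
        (Cfsg.omegaCenterOf T = Z₀ ∧ Nat.card ↥Z₀ = 4 ∧
          (L ⊓ Subgroup.centralizer (Z₀ : Set G)).relIndex
            (Subgroup.normalizer (Z₀ : Set G)) = 2)) := by
  subst hTS
  subst hZdef
  subst hZ₀
  have : Fact (Nat.Prime 2) := ⟨Nat.prime_two⟩
  have hS2 : IsPGroup 2 ↥(S : Subgroup G) := S.isPGroup'
  have hK₀ := hK
  obtain ⟨hKJ0, hKM, -⟩ := hK
  have hKcomp : IsJComponent (S : Subgroup G) K := hKJ0.1
  have hS1 : (S : Subgroup G) ≠ ⊥ := hT.1.2.1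
  have hSL : (S : Subgroup G) ≤ L :=
    Subgroup.le_normalizer.trans (hU (Subgroup.normalizer ((S : Subgroup G) : Set G))
      ⟨(S : Subgroup G), hS2, hS1, rfl⟩ Subgroup.le_normalizer)
  have hKL' : K ≤ L := le_sup_left.trans hKL
  have hLM : ¬ L ≤ M := fun h => hKM (hKL'.trans h)
  have hJS : thompsonSubgroupOf 2 (S : Subgroup G) ≤ (S : Subgroup G) :=
    Cfsg.Agent.Lib.Helper11.thompsonSubgroupOf_le 2 _
  have hLS : L ∈ jOvergroups (S : Subgroup G) :=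
    (Cfsg.Agent.S2948.result hL hN hZ hO S M hM hMJ (S : Subgroup G) hT L hLmax.1 hLM
      (S : Subgroup G) (Cfsg.Agent.Lib.Helper23.KS12.isSylowTwoIn_of_sylow_le S hSL) hJS).2.2.1
  have h46 := Cfsg.Agent.S2946.result hL hN hZ (S : Subgroup G) hS2 hS1 K hKcomp
    (omegaCenterOf (thompsonSubgroupOf 2 (S : Subgroup G))) rfl
  have hfirst : omegaCenterOf (thompsonSubgroupOf 2 (S : Subgroup G)) ⊓ wOf K ≠ ⊥ := by
    intro h
    have h2 := h46.1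
    rw [h] at h2
    simp at h2
  refine ⟨hfirst, Or.inl ?_⟩
  have hV4 : ∀ (S : Sylow 2 G) (M : Subgroup G), IsTwoLocal M →
      Subgroup.normalizer (thompsonSubgroupOf 2 (S : Subgroup G) : Set G) ≤ M →
      ∀ T : Subgroup G, T ∈ maxStraddlingTwoSubgroups M → T ≤ (S : Subgroup G) →
      ∀ K : Subgroup G, K ∈ jComponentsOutside M T → ∀ L : Subgroup G, IsMaximalTwoLocal L →
      K ⊔ thompsonSubgroupOf 2 T ≤ L → T ≠ (S : Subgroup G) →
        (omegaCenterOf (S : Subgroup G) = omegaCenterOf (thompsonSubgroupOf 2 T) ∧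
          Nat.card ↥(omegaCenterOf (thompsonSubgroupOf 2 T)) = 2) ∨
        (omegaCenterOf T = omegaCenterOf (thompsonSubgroupOf 2 T) ∧
          Nat.card ↥(omegaCenterOf (thompsonSubgroupOf 2 T)) = 4) := by
    intro S₁ M₁ hM₁ hMJ₁ T₁ hT₁ hTS₁ K₁ hK₁ L₁ hL₁ hKL₁ hne₁
    obtain ⟨-, h | h | h⟩ := Cfsg.Agent.Lib.Helper2.KS12.s2951_of_ne hL hN hZ hO
      (Cfsg.Agent.S2950.result hL hN hZ hO) S₁ M₁ hM₁ hMJ₁ T₁ hT₁ hTS₁ hne₁ K₁ hK₁ L₁ hL₁ hKL₁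
      _ _ rfl rfl
    · exact Or.inl h
    · exact absurd h.2.2 hne₁
    · exact Or.inr ⟨h.1, h.2.1⟩
  obtain ⟨hZ2, T', K', L', hT'2, hT'1, hT'S, hT'L, hK', hK'L, hL'max, hT'L', hZL', hcard⟩ :=
    Cfsg.Agent.Lib.Helper81.KS12.exists_straddle_data hL hN hZ hO
      (Cfsg.Agent.S2948.result hL hN hZ hO) (Cfsg.Agent.S2949.result hL hN hZ hO)
      (Cfsg.Agent.S2950.result hL hN hZ hO) hV4 S L hLmax hLS hU
  have hZZ₀ := Cfsg.Agent.Lib.Helper2.KS12.omegaCenterOf_le_omegaCenterOf_thompson (S : Subgroup G)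
  have hKZ := Cfsg.Agent.Lib.Helper2.KS12.not_le_centralizer_omegaCenterOf hZ S hMJ hK₀
  by_cases hex : ∃ K₂ : Subgroup G, IsJComponent (S : Subgroup G) K₂ ∧ K₂ ≤ L ∧ K₂ ≠ K
  · obtain ⟨K₂, hK₂, hK₂L, hne⟩ := hex
    exact (step5 hL hN hZ (Cfsg.Agent.Lib.Helper85.KS12.jCompCentralize hL hN hZ) S L hLS
      (Cfsg.Agent.Lib.Helper15.KS12.genByJComponents hN hZ hS1 hLS) hU
      (fun K₃ hK₃ hK₃L L₃ hL₃ hKL₃ => remarkR hL hN hZ hO S L hLmax hLS K₃ hK₃ hK₃L L₃ hL₃ hKL₃)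
      K₂ K hK₂ hK₂L hKcomp hKL' hne T' K' L' hT'2 hT'1 hT'S hT'L hK' hK'L hL'max hT'L' hZL'
      hcard).elim
  · push Not at hex
    have hSK : (S : Subgroup G) ≤ Subgroup.normalizer (K : Set G) := by
      intro s hs
      have hsN : s ∈ Subgroup.normalizer (thompsonSubgroupOf 2 (S : Subgroup G) : Set G) :=
        Cfsg.Agent.Lib.Helper11.normalizer_le_normalizer_thompsonSubgroupOf 2 _
          (Subgroup.le_normalizer hs)
      have h1 : IsJComponent (S : Subgroup G) (K.map (MulAut.conj s).toMonoidHom) :=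
        Cfsg.Agent.Lib.Helper81.KS12.isJComponent_map_conj hKcomp hsN
      have h2 : K.map (MulAut.conj s).toMonoidHom ≤ L := by
        rintro _ ⟨k, hk, rfl⟩
        exact L.mul_mem (L.mul_mem (hSL hs) (hKL' hk)) (L.inv_mem (hSL hs))
      exact Cfsg.Agent.Lib.Helper11.mem_normalizer_of_map_conj_eq (hex _ h1 h2)
    exact Cfsg.Agent.Lib.Helper72.KS12.alt1_of_normalizes hL hN hZ S K hKcomp hS1 hSK hZ2 hZZ₀ hKZ

end Cfsg.Agent.Lib.Helper34.KS12
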