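import Cfsg.Agent.Lib.Helper34.KS12.UGPure
import Cfsg.Agent.Lib.Helper34.KS12.Step5
import Cfsg.Agent.Lib.Helper11.KS12.Perm
import Cfsg.Agent.Lib.Helper85.KS12.HCommClosed
import Cfsg.Agent.Lib.Helper96.KS12.V3
import Cfsg.Agent.Lib.Helper47.Subn
import Cfsg.Agent.S2948
import Cfsg.Agent.S2949
import Cfsg.Agent.S2950
import Cfsg.Agent.S2952

set_option autoImplicit false

/-!
# S2953, the (U)-glue (helper34, KS12)

`ALStatement G` is the abstract lemma AL of helper31 (note 2993).  `not_U_of_eq`: given AL, in the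
situation `T = S` the scenario (U) (every 2-local subgroup containing `S` lies in `L`) is
impossible.
-/

namespace Cfsg.Agent.Lib.Helper34.KS12

open Cfsg

variable {G : Type*} [Group G]

/-- The abstract lemma AL (helper31): the local configuration below is contradictory.
(The last hypothesis `W ≤ S` was pointed out by helper90.) -/
def ALStatement (G : Type*) [Group G] : Prop :=
  ∀ (S T' K' W W' : Subgroup G) (x z : G),
    Nat.card ↥W = 4 → (∀ w ∈ W, w * w = 1) → S ≤ Subgroup.normalizer (W : Set G) →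
    z ∈ W → z ≠ 1 → (∀ s ∈ S, s * z = z * s) →
    (∀ u ∈ W, u ≠ 1 → Subgroup.centralizer ({u} : Set G) ≤ Subgroup.normalizer (W : Set G)) →
    T' ≤ S → T' ≤ Subgroup.normalizer (K' : Set G) →
    Nat.card ↥W' = 4 → (∀ w ∈ W', w * w = 1) →
    K' ≤ Subgroup.normalizer (W' : Set G) → T' ≤ Subgroup.normalizer (W' : Set G) → W' ≤ T' →
    (T' ⊓ Subgroup.centralizer (W' : Set G)).relIndex T' = 2 →
    K' ≤ Subgroup.normalizer ((T' ⊓ Subgroup.centralizer (W' : Set G) : Subgroup G) : Set G) →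
    ⁅K', T'⁆ = K' →
    (K' ⊓ Subgroup.centralizer (W' : Set G)).relIndex K' = 3 →
    K' ⊓ Subgroup.centralizer (W' : Set G) ≤ T' →
    (∃ k ∈ K', ∀ w ∈ W', k * w * k⁻¹ = w → w = 1) →
    x ∈ S → x ∈ Subgroup.normalizer (T' : Set G) → x ∉ T' → x * x ∈ T' →
    (∀ X : Subgroup G, X ≠ ⊥ → X ≤ T' → K' ≤ Subgroup.normalizer (X : Set G) →
      T' ≤ Subgroup.normalizer (X : Set G) → ∀ s ∈ S, s ∈ Subgroup.normalizer (X : Set G) →
      s ∈ T') →
    (∀ c ∈ W, c ≠ 1 → ¬ K' ≤ Subgroup.centralizer ({c} : Set G)) → W ≤ S → False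

theorem conj_mem_centralizer_of_mem_normalizer {W : Subgroup G} {g q : G}
    (hg : g ∈ Subgroup.normalizer (W : Set G)) (hq : q ∈ Subgroup.centralizer (W : Set G)) :
    g * q * g⁻¹ ∈ Subgroup.centralizer (W : Set G) := by
  rw [Subgroup.mem_centralizer_iff]
  intro w hw
  have hw' : g⁻¹ * w * g ∈ W := by
    have := (Subgroup.mem_normalizer_iff.mp hg (g⁻¹ * w * g))
    apply this.mpr
    have e : g * (g⁻¹ * w * g) * g⁻¹ = w := by group
    rw [e]
    exact hw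
  have hc := Subgroup.mem_centralizer_iff.mp hq _ hw'
  calc w * (g * q * g⁻¹) = g * ((g⁻¹ * w * g) * q) * g⁻¹ := by group
    _ = g * (q * (g⁻¹ * w * g)) * g⁻¹ := by rw [hc]
    _ = g * q * g⁻¹ * w := by group

/-- **(UG)** Given AL: for `T = S` the scenario (U) is impossible. -/
theorem not_U_of_eq [Finite G] (hL : Cfsg.IsCharacteristicTwoType G)
    (hN : ∀ N : Subgroup G, Cfsg.IsTwoLocal N → Group.IsSolvable ↥N)
    (hZ : ∀ S : Sylow 2 G, Subgroup.centralizer (Cfsg.omegaCenterOf (S : Subgroup G) : Set G) ≤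
      Subgroup.normalizer ((S : Subgroup G) : Set G))
    (hO : Cfsg.pCore 2 G = ⊥) (hAL : ALStatement G)
    (S : Sylow 2 G) (M : Subgroup G) (hM : Cfsg.IsTwoLocal M)
    (hMJ : Subgroup.normalizer (Cfsg.thompsonSubgroupOf 2 (S : Subgroup G) : Set G) ≤ M)
    (hT : (S : Subgroup G) ∈ Cfsg.maxStraddlingTwoSubgroups M)
    (K : Subgroup G) (hK : K ∈ Cfsg.jComponentsOutside M (S : Subgroup G))
    (L : Subgroup G) (hLmax : Cfsg.IsMaximalTwoLocal L)
    (hKL : K ⊔ Cfsg.thompsonSubgroupOf 2 (S : Subgroup G) ≤ L) :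
    ¬ ∀ N : Subgroup G, IsTwoLocal N → (S : Subgroup G) ≤ N → N ≤ L := by
  intro hU
  have : Fact (Nat.Prime 2) := ⟨Nat.prime_two⟩
  have hS2 : IsPGroup 2 ↥(S : Subgroup G) := S.isPGroup'
  have hK₀ := hK
  obtain ⟨hKJ0, hKM, -⟩ := hK
  have hKcomp : IsJComponent (S : Subgroup G) K := hKJ0.1
  have hS1 : (S : Subgroup G) ≠ ⊥ := hT.1.2.1
  have hSL : (S : Subgroup G) ≤ L :=
    Subgroup.le_normalizer.trans (hU (Subgroup.normalizer ((S : Subgroup G) : Set G))
      ⟨(S : Subgroup G), hS2, hS1, rfl⟩ Subgroup.le_normalizer)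
  have hKL' : K ≤ L := le_sup_left.trans hKL
  have hLM : ¬ L ≤ M := fun h => hKM (hKL'.trans h)
  have hJS : thompsonSubgroupOf 2 (S : Subgroup G) ≤ (S : Subgroup G) :=
    Cfsg.Agent.Lib.Helper11.thompsonSubgroupOf_le 2 _
  have hLS : L ∈ jOvergroups (S : Subgroup G) :=
    (Cfsg.Agent.S2948.result hL hN hZ hO S M hM hMJ (S : Subgroup G) hT L hLmax.1 hLM
      (S : Subgroup G) (Cfsg.Agent.Lib.Helper23.KS12.isSylowTwoIn_of_sylow_le S hSL) hJS).2.2.1
  have hJ1 : thompsonSubgroupOf 2 (S : Subgroup G) ≠ ⊥ := fun h => hLS.2.1 (h ▸ bot_le)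
  have hJ2 : IsPGroup 2 ↥(thompsonSubgroupOf 2 (S : Subgroup G)) := hS2.to_le hJS
  have hSNJ : (S : Subgroup G) ≤
      Subgroup.normalizer (thompsonSubgroupOf 2 (S : Subgroup G) : Set G) :=
    Subgroup.le_normalizer.trans
      (Cfsg.Agent.Lib.Helper11.normalizer_le_normalizer_thompsonSubgroupOf 2 _)
  have hLJ : Subgroup.normalizer (thompsonSubgroupOf 2 (S : Subgroup G) : Set G) ≤ L :=
    hU _ ⟨thompsonSubgroupOf 2 (S : Subgroup G), hJ2, hJ1, rfl⟩ hSNJ
  -- `S` normalizes `K` (S2952) and `W`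
  have h52 := Cfsg.Agent.S2952.result hL hN hZ hO S M hM hMJ (S : Subgroup G) hT K hK₀
  have hSK : (S : Subgroup G) ≤ Subgroup.normalizer (K : Set G) :=
    le_sup_right.trans ((Subgroup.normal_subgroupOf_iff_le_normalizer le_sup_left).mp h52)
  have c := Cfsg.Agent.Lib.Helper71.JC.cfg_of_isJComponent hS2 hKcomp
  have hW4 : Nat.card ↥(wOf K) = 4 := c.hW4
  have hW2 : ∀ w ∈ wOf K, w * w = 1 := c.hW2
  have hSW : (S : Subgroup G) ≤ Subgroup.normalizer (wOf K : Set G) :=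
    hSK.trans (Cfsg.Agent.Lib.Helper81.KS12.normalizer_le_normalizer_wOf K)
  have hRS : pCoreOf 2 K ≤ (S : Subgroup G) := by
    have hP : IsPGroup 2 ↥((S : Subgroup G) ⊔ pCoreOf 2 K) :=
      hS2.to_sup_of_normal_right' c.hR2
        (hSK.trans (Cfsg.Agent.Lib.Helper47.normalizer_le_normalizer_pCoreOf 2 K))
    have := S.is_maximal' hP le_sup_left
    exact le_sup_right.trans this.le
  have hWS : wOf K ≤ (S : Subgroup G) := c.hWR.trans hRS
  have hW1 : wOf K ≠ ⊥ := c.W_ne_bot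
  obtain ⟨z, hzW, hz1, hzS⟩ :=
    Cfsg.Agent.Lib.Helper72.KS12.exists_central_of_le_normalizer hS2 hWS hW1 hSW
  have hz2 : z ^ 2 = 1 := by rw [pow_two]; exact hW2 z hzW
  have hComm := Cfsg.Agent.Lib.Helper85.KS12.jCompCentralize hL hN hZ
  -- `C_G(z) ≤ N_G(K)`
  have hCzL : Subgroup.centralizer ({z} : Set G) ≤ L := by
    refine (centralizer_singleton_le_normalizer_zpowers z).trans
      (hU _ (isTwoLocal_normalizer_zpowers hz1 hz2) ?_)
    refine le_trans ?_ (centralizer_singleton_le_normalizer_zpowers z)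
    intro s hs
    rw [Subgroup.mem_centralizer_iff]
    intro t ht
    rw [Set.mem_singleton_iff] at ht
    subst ht
    exact (hzS s hs).symm
  have hCzK : Subgroup.centralizer ({z} : Set G) ≤ Subgroup.normalizer (K : Set G) := by
    intro g hg
    have hgL : g ∈ L := hCzL hg
    have hgz : g * z * g⁻¹ = z := by
      have h1 : z * g = g * z := Subgroup.mem_centralizer_iff.mp hg z (Set.mem_singleton z)
      rw [← h1]; group
    obtain ⟨hKg, hKgL⟩ :=
      Cfsg.Agent.Lib.Helper11.KS12.jcomp_conj_of_mem hL hN hZ hS2 hS1 hLS hKcomp hKL' hgL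
    by_contra hcon
    have hne : K ≠ K.map (MulAut.conj g).toMonoidHom := fun h =>
      hcon (Cfsg.Agent.Lib.Helper11.mem_normalizer_of_map_conj_eq h.symm)
    have hcent := hComm (S : Subgroup G) L K (K.map (MulAut.conj g).toMonoidHom) hS2 hS1 hLS
      hKcomp hKg hKL' hKgL hne
    have cg := Cfsg.Agent.Lib.Helper71.JC.cfg_of_isJComponent hS2 hKg
    obtain ⟨d, hd, hdR⟩ := cg.exists_d
    have hzWg : z ∈ wOf (K.map (MulAut.conj g).toMonoidHom) := by
      rw [Cfsg.Agent.Lib.Helper81.KS12.wOf_map]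
      exact ⟨z, hzW, by simpa using hgz⟩
    have hdz : d * z * d⁻¹ = z := by
      have h1 : z * d = d * z := Subgroup.mem_centralizer_iff.mp (hcent hd) z hzW
      rw [← h1]; group
    exact hz1 (cg.hfp d hd hdR z hzWg hdz)
  -- (P2)
  have hKW : K ≤ Subgroup.normalizer (wOf K : Set G) := c.hKW
  have htrans := (Cfsg.Agent.Lib.Helper76.KS12.wsys_basic hComm hS2 hS1 hLS).2.2.2.2.2.1
    ⟨K, hKcomp, hKL'⟩
  have hP2 : ∀ u ∈ wOf K, u ≠ 1 →
      Subgroup.centralizer ({u} : Set G) ≤ Subgroup.normalizer (wOf K : Set G) := by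
    intro u hu hu1
    obtain ⟨k, hk, hkz⟩ := htrans z hzW u hu hz1 hu1
    intro g hg
    have hgu : u * g = g * u := Subgroup.mem_centralizer_iff.mp hg u (Set.mem_singleton u)
    have h1 : k⁻¹ * g * k ∈ Subgroup.centralizer ({z} : Set G) := by
      rw [Subgroup.mem_centralizer_iff]
      intro t ht
      rw [Set.mem_singleton_iff] at ht
      subst ht
      have hz' : t = k⁻¹ * u * k := by rw [← hkz]; group
      rw [hz']
      calc k⁻¹ * u * k * (k⁻¹ * g * k) = k⁻¹ * (u * g) * k := by group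
        _ = k⁻¹ * (g * u) * k := by rw [hgu]
        _ = k⁻¹ * g * k * (k⁻¹ * u * k) := by group
    have h2 : k⁻¹ * g * k ∈ Subgroup.normalizer (wOf K : Set G) :=
      (hCzK.trans (Cfsg.Agent.Lib.Helper81.KS12.normalizer_le_normalizer_wOf K)) h1
    have hkN : k ∈ Subgroup.normalizer (wOf K : Set G) := hKW hk
    have : g = k * (k⁻¹ * g * k) * k⁻¹ := by group
    rw [this]
    exact (Subgroup.normalizer (wOf K : Set G)).mul_mem
      ((Subgroup.normalizer (wOf K : Set G)).mul_mem hkN h2)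
      ((Subgroup.normalizer (wOf K : Set G)).inv_mem hkN)
  have hNWL : Subgroup.normalizer (wOf K : Set G) ≤ L :=
    hU _ (Cfsg.Agent.Lib.Helper81.KS12.isTwoLocal_normalizer_wOf hKcomp) hSW
  -- the straddling data for `L`
  obtain ⟨T', hT'max, hT'S⟩ :=
    Cfsg.Agent.Lib.Helper96.KS12.exists_maxStraddling_le_sylow hL hN hZ hO S L hLmax.1 hLJ hLS
  have hT'ne : T' ≠ (S : Subgroup G) := by
    rintro rfl
    obtain ⟨-, -, -, N, hN2, hSN, hNL⟩ := hT'max.1
    exact hNL (hU N hN2 hSN)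
  obtain ⟨K', hK'⟩ := Cfsg.Agent.S2949.result hL hN hZ hO S L hLmax.1 hLJ T' hT'max
  obtain ⟨L', hL'max, hK'L', huniq', -, hT'L'⟩ :=
    Cfsg.Agent.S2950.result hL hN hZ hO S L hLmax.1 hLJ T' hT'max K' hK'
  have hT'2 : IsPGroup 2 ↥T' := hT'max.1.1
  have hK'comp : IsJComponent T' K' := hK'.1.1
  have hK'L : ¬ K' ≤ L := hK'.2.1
  have h52' := Cfsg.Agent.S2952.result hL hN hZ hO S L hLmax.1 hLJ T' hT'max K' hK'
  have hT'K' : T' ≤ Subgroup.normalizer (K' : Set G) :=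
    le_sup_right.trans ((Subgroup.normal_subgroupOf_iff_le_normalizer le_sup_left).mp h52')
  have c' := Cfsg.Agent.Lib.Helper71.JC.cfg_of_isJComponent hT'2 hK'comp
  have hJ'T' : thompsonSubgroupOf 2 T' ≤ T' := Cfsg.Agent.Lib.Helper11.thompsonSubgroupOf_le 2 _
  have hT'W' : T' ≤ Subgroup.normalizer (wOf K' : Set G) :=
    hT'K'.trans (Cfsg.Agent.Lib.Helper81.KS12.normalizer_le_normalizer_wOf K')
  have hR'T' : pCoreOf 2 K' ≤ T' := by
    have hP : IsPGroup 2 ↥(T' ⊔ pCoreOf 2 K') :=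
      hT'2.to_sup_of_normal_right' c'.hR2
        (hT'K'.trans (Cfsg.Agent.Lib.Helper47.normalizer_le_normalizer_pCoreOf 2 K'))
    exact le_sup_right.trans (Cfsg.Agent.Lib.Helper2.KS12.le_of_isSylowTwoIn_of_le hT'L' hP
      le_sup_left (sup_le hT'L'.1 (c'.hRK.trans (le_sup_left.trans hK'L'))))
  have hW'T' : wOf K' ≤ T' := c'.hWR.trans hR'T'
  have hKC : K' ⊓ Subgroup.centralizer (wOf K' : Set G) = pCoreOf 2 K' := by
    apply le_antisymm
    · intro k hk
      apply c'.mem_R_of_centralizes hk.1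
      intro w hw
      have h1 : w * k = k * w := Subgroup.mem_centralizer_iff.mp hk.2 w hw
      rw [← h1]; group
    · refine le_inf c'.hRK ?_
      intro r hr
      rw [Subgroup.mem_centralizer_iff]
      intro w hw
      exact c'.hWZ w hw r hr
  have hK'idx : (K' ⊓ Subgroup.centralizer (wOf K' : Set G)).relIndex K' = 3 := by
    rw [hKC]; exact c'.hidx
  have hK'C : K' ⊓ Subgroup.centralizer (wOf K' : Set G) ≤ T' := by
    rw [hKC]; exact hR'T'
  have hnc : ¬ T' ≤ Subgroup.centralizer (wOf K' : Set G) :=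
    fun h => c'.J_not_centralizes (hJ'T'.trans h)
  have hQidx := relIndex_inf_centralizer_four hT'2 c'.hW4 c'.hW2 hW'T' hT'W' hnc
  have hK'Q : K' ≤ Subgroup.normalizer
      ((T' ⊓ Subgroup.centralizer (wOf K' : Set G) : Subgroup G) : Set G) := by
    have key : ∀ k ∈ K', ∀ q ∈ T' ⊓ Subgroup.centralizer (wOf K' : Set G),
        k * q * k⁻¹ ∈ T' ⊓ Subgroup.centralizer (wOf K' : Set G) := by
      intro k hk q hq
      have hc1 : k * q * k⁻¹ ∈ Subgroup.centralizer (wOf K' : Set G) :=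
        conj_mem_centralizer_of_mem_normalizer (c'.hKW hk) hq.2
      refine ⟨?_, hc1⟩
      have hqk : q * k⁻¹ * q⁻¹ ∈ K' :=
        (Subgroup.mem_normalizer_iff.mp (hT'K' hq.1) k⁻¹).mp (K'.inv_mem hk)
      have h1 : k * q * k⁻¹ * q⁻¹ ∈ K' := by
        have e : k * q * k⁻¹ * q⁻¹ = k * (q * k⁻¹ * q⁻¹) := by group
        rw [e]
        exact K'.mul_mem hk hqk
      have h2 : k * q * k⁻¹ * q⁻¹ ∈ Subgroup.centralizer (wOf K' : Set G) :=
        (Subgroup.centralizer (wOf K' : Set G)).mul_mem hc1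
          ((Subgroup.centralizer (wOf K' : Set G)).inv_mem hq.2)
      have h3 : k * q * k⁻¹ * q⁻¹ ∈ T' := hK'C ⟨h1, h2⟩
      have e : k * q * k⁻¹ = (k * q * k⁻¹ * q⁻¹) * q := by group
      rw [e]
      exact T'.mul_mem h3 hq.1
    intro k hk
    apply Cfsg.Agent.Lib.Helper85.KS12.mem_normalizer_of_conj_mem (key k hk)
    intro q hq
    have := key k⁻¹ (K'.inv_mem hk) q hq
    simpa using this
  have hcomm : ⁅K', T'⁆ = K' := by
    apply le_antisymm
    · rw [Subgroup.commutator_le]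
      intro k hk t ht
      rw [commutatorElement_def]
      have htk : t * k⁻¹ * t⁻¹ ∈ K' :=
        (Subgroup.mem_normalizer_iff.mp (hT'K' ht) k⁻¹).mp (K'.inv_mem hk)
      have e : k * t * k⁻¹ * t⁻¹ = k * (t * k⁻¹ * t⁻¹) := by group
      rw [e]
      exact K'.mul_mem hk htk
    · have h1 : ⁅K', thompsonSubgroupOf 2 T'⁆ = K' := hK'comp.2.1
      calc K' = ⁅K', thompsonSubgroupOf 2 T'⁆ := h1.symm
        _ ≤ ⁅K', T'⁆ := Subgroup.commutator_mono le_rfl hJ'T'
  obtain ⟨d, hd, hdR⟩ := c'.exists_d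
  have hfp : ∃ k ∈ K', ∀ w ∈ wOf K', k * w * k⁻¹ = w → w = 1 :=
    ⟨d, hd, fun w hw h => c'.hfp d hd hdR w hw h⟩
  obtain ⟨x, hxS, hxT', hxn, hx2⟩ := exists_normalizing_sq hS2 hT'S hT'ne
  have hKP : ∀ X : Subgroup G, X ≠ ⊥ → X ≤ T' → K' ≤ Subgroup.normalizer (X : Set G) →
      T' ≤ Subgroup.normalizer (X : Set G) → ∀ s ∈ (S : Subgroup G),
      s ∈ Subgroup.normalizer (X : Set G) → s ∈ T' := by
    intro X hX1 hXT hK'X hT'X s hsS hsX
    have hX2 : IsPGroup 2 ↥X := hT'2.to_le hXT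
    obtain ⟨L'', hL''max, hL''⟩ := Cfsg.Agent.Lib.Helper81.KS12.exists_isMaximalTwoLocal_ge
      (⟨X, hX2, hX1, rfl⟩ : IsTwoLocal (Subgroup.normalizer (X : Set G)))
    have hKJ : K' ⊔ thompsonSubgroupOf 2 T' ≤ L'' :=
      (sup_le hK'X (hJ'T'.trans hT'X)).trans hL''
    have hLL := huniq' L'' hL''max hKJ
    have hsL' : s ∈ L' := hLL ▸ hL'' hsX
    have hinf := Cfsg.Agent.Lib.Helper2.KS12.sylow_inf_eq hT'L' S hT'S
    rw [← hinf]
    exact ⟨hsS, hsL'⟩
  have hno : ∀ c ∈ wOf K, c ≠ 1 → ¬ K' ≤ Subgroup.centralizer ({c} : Set G) :=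
    fun c hc hc1 h => hK'L (h.trans ((hP2 c hc hc1).trans hNWL))
  exact hAL (S : Subgroup G) T' K' (wOf K) (wOf K') x z hW4 hW2 hSW hzW hz1 hzS hP2 hT'S hT'K'
    c'.hW4 c'.hW2 c'.hKW hT'W' hW'T' hQidx hK'Q hcomm hK'idx hK'C hfp hxS hxT' hxn hx2 hKP hno
    hWS

end Cfsg.Agent.Lib.Helper34.KS12
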