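import Cfsg.Agent.Lib.Helper72.KS12.Step4
import Cfsg.Agent.Lib.Helper72.KS12.Dich
import Cfsg.Agent.Lib.Helper23.KS12.V5

set_option autoImplicit false

/-!
# Pure lemmas for the (U)-glue of S2953 (helper34, KS12)

* `exists_normalizing_sq`: a proper subgroup `T` of a finite 2-group `S` has an element
  `x ∈ N_S(T) \ T` with `x² ∈ T`.
* `relIndex_inf_centralizer_four`: a 2-group `T` normalizing a four-group `W ≤ T` that it does
  not centralize has `|T : C_T(W)| = 2`.
-/

namespace Cfsg.Agent.Lib.Helper34.KS12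

variable {G : Type*} [Group G]

theorem exists_normalizing_sq [Finite G] {S T : Subgroup G} (hS : IsPGroup 2 ↥S) (hTS : T ≤ S)
    (hne : T ≠ S) :
    ∃ x ∈ S, x ∈ Subgroup.normalizer (T : Set G) ∧ x ∉ T ∧ x * x ∈ T := by
  have : Fact (Nat.Prime 2) := ⟨Nat.prime_two⟩
  have hnil : Group.IsNilpotent ↥S := hS.isNilpotent
  have hlt : T.subgroupOf S < ⊤ := by
    rw [lt_top_iff_ne_top]
    intro h
    apply hne
    apply le_antisymm hTS
    intro s hs
    have : (⟨s, hs⟩ : S) ∈ T.subgroupOf S := by rw [h]; trivial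
    exact Subgroup.mem_subgroupOf.mp this
  have hnc := Group.normalizerCondition_of_isNilpotent (G := ↥S) (T.subgroupOf S) hlt
  obtain ⟨y, hyN, hyT⟩ := SetLike.exists_of_lt hnc
  have hyT' : (y : G) ∉ T := fun h => hyT (Subgroup.mem_subgroupOf.mpr h)
  have hyN' : (y : G) ∈ Subgroup.normalizer (T : Set G) := by
    rw [Subgroup.mem_normalizer_iff]
    intro g
    rw [Subgroup.mem_normalizer_iff] at hyN
    constructor
    · intro hg
      have := (hyN ⟨g, hTS hg⟩).mp (Subgroup.mem_subgroupOf.mpr hg)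
      exact Subgroup.mem_subgroupOf.mp this
    · intro hg
      have hgS : g ∈ S := by
        have h1 : g = (y : G)⁻¹ * ((y : G) * g * (y : G)⁻¹) * (y : G) := by group
        rw [h1]
        exact S.mul_mem (S.mul_mem (S.inv_mem y.2) (hTS hg)) y.2
      have := (hyN ⟨g, hgS⟩).mpr (Subgroup.mem_subgroupOf.mpr hg)
      exact Subgroup.mem_subgroupOf.mp this
  -- powers
  have hex : ∃ n : ℕ, (y : G) ^ (2 ^ n) ∈ T := by
    obtain ⟨n, hn⟩ := hS y
    refine ⟨n, ?_⟩
    have : (y : G) ^ (2 ^ n) = 1 := by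
      have := congrArg Subtype.val hn
      simpa using this
    rw [this]
    exact T.one_mem
  classical
  have hn0 : Nat.find hex ≠ 0 := by
    intro h0
    have := Nat.find_spec hex
    rw [h0] at this
    simp at this
    exact hyT' this
  obtain ⟨m, hm⟩ := Nat.exists_eq_succ_of_ne_zero hn0
  refine ⟨(y : G) ^ (2 ^ m), S.pow_mem y.2 _, ?_, ?_, ?_⟩
  · exact (Subgroup.normalizer (T : Set G)).pow_mem hyN' _
  · intro h
    have := Nat.find_min' hex h
    omega
  · have := Nat.find_spec hex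
    rw [hm, pow_succ, pow_mul, pow_two] at this
    exact this

theorem relIndex_inf_centralizer_four [Finite G] {T W : Subgroup G} (hT : IsPGroup 2 ↥T)
    (hW4 : Nat.card W = 4) (hW2 : ∀ w ∈ W, w * w = 1) (hWT : W ≤ T)
    (hTW : T ≤ Subgroup.normalizer (W : Set G))
    (hnc : ¬ T ≤ Subgroup.centralizer (W : Set G)) :
    (T ⊓ Subgroup.centralizer (W : Set G)).relIndex T = 2 := by
  have : Fact (Nat.Prime 2) := ⟨Nat.prime_two⟩
  have hW1 : W ≠ ⊥ := by
    intro h
    rw [h] at hW4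
    simp at hW4
  obtain ⟨w₀, hw₀W, hw₀1, hw₀c⟩ :=
    Cfsg.Agent.Lib.Helper72.KS12.exists_central_of_le_normalizer hT hWT hW1 hTW
  obtain ⟨a₁, ha₁, a₂, ha₂, ha₁1, ha₂1, ha₁₂⟩ :=
    Cfsg.Agent.Lib.Helper72.KS12.exists_two_of_card_four hW4
  -- an element `a ∈ W`, `a ≠ 1`, `a ≠ w₀`
  obtain ⟨a, haW, ha1, haw⟩ : ∃ a ∈ W, a ≠ 1 ∧ a ≠ w₀ := by
    by_cases h : a₁ = w₀
    · exact ⟨a₂, ha₂, ha₂1, fun h2 => ha₁₂ (h.trans h2.symm)⟩
    · exact ⟨a₁, ha₁, ha₁1, h⟩
  have hinv : ∀ w ∈ W, w⁻¹ = w := fun w hw => inv_eq_of_mul_eq_one_left (hW2 w hw)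
  have hawW : a * w₀ ∈ W := W.mul_mem haW hw₀W
  have haw1 : a * w₀ ≠ 1 := by
    intro h
    apply haw
    have := eq_inv_of_mul_eq_one_left h
    rw [this, hinv w₀ hw₀W]
  have haw_a : a * w₀ ≠ a := fun h => hw₀1 (by simpa using h)
  have haw_w : a * w₀ ≠ w₀ := fun h => ha1 (by simpa using h)
  have hall : ∀ v ∈ W, v = 1 ∨ v = w₀ ∨ v = a ∨ v = a * w₀ := fun v hv =>
    Cfsg.Agent.Lib.Helper23.KS12.eq_of_card_four hW4 hw₀W haW hawW hw₀1 ha1 haw1
      (fun h => haw h.symm) (fun h => haw_w h.symm) (fun h => haw_a h.symm) hv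
  -- action of `s ∈ T` on `a`
  have hconj_w₀ : ∀ s ∈ T, s * w₀ * s⁻¹ = w₀ := fun s hs => by
    rw [hw₀c s hs]; group
  have hdich : ∀ s ∈ T, s * a * s⁻¹ = a ∨ s * a * s⁻¹ = a * w₀ := by
    intro s hs
    have hmem : s * a * s⁻¹ ∈ W := (Subgroup.mem_normalizer_iff.mp (hTW hs) a).mp haW
    rcases hall _ hmem with h | h | h | h
    · exfalso
      apply ha1
      have : a = s⁻¹ * (s * a * s⁻¹) * s := by group
      rw [this, h]; group
    · exfalso
      apply haw
      have : a = s⁻¹ * (s * a * s⁻¹) * s := by group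
      rw [this, h]
      have h2 := hconj_w₀ s hs
      calc s⁻¹ * w₀ * s = s⁻¹ * (s * w₀ * s⁻¹) * s := by rw [h2]
        _ = w₀ := by group
    · exact Or.inl h
    · exact Or.inr h
  have hcent : ∀ s ∈ T, s * a * s⁻¹ = a → s ∈ Subgroup.centralizer (W : Set G) := by
    intro s hs hsa
    rw [Subgroup.mem_centralizer_iff]
    intro v hv
    have hsa' : s * a = a * s := by
      have : s * a = s * a * s⁻¹ * s := by group
      rw [this, hsa]
    rcases hall v hv with h | h | h | h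
    · rw [h]; simp
    · rw [h]; exact (hw₀c s hs).symm
    · rw [h]; exact hsa'.symm
    · rw [h, mul_assoc, ← hw₀c s hs, ← mul_assoc, ← hsa', mul_assoc]
  -- a non-centralizing element
  obtain ⟨t, htT, htC⟩ := SetLike.not_le_iff_exists.mp hnc
  have hta : t * a * t⁻¹ = a * w₀ := by
    rcases hdich t htT with h | h
    · exact absurd (hcent t htT h) htC
    · exact h
  rw [Subgroup.relIndex_eq_two_iff]
  refine ⟨t, htT, fun b hb => ?_⟩
  have hbt : b * t ∈ T := T.mul_mem hb htT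
  by_cases hbC : b ∈ Subgroup.centralizer (W : Set G)
  · -- b centralizes, so b * t does not
    refine Or.inr ⟨⟨hb, hbC⟩, fun h => htC ?_⟩
    have h1 : t = b⁻¹ * (b * t) := by group
    rw [h1]
    exact (Subgroup.centralizer (W : Set G)).mul_mem
      ((Subgroup.centralizer (W : Set G)).inv_mem hbC) h.2
  · refine Or.inl ⟨⟨hbt, ?_⟩, fun h => hbC h.2⟩
    apply hcent _ hbt
    have hba : b * a * b⁻¹ = a * w₀ := by
      rcases hdich b hb with h | h
      · exact absurd (hcent b hb h) hbC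
      · exact h
    have hbw : b * w₀ * b⁻¹ = w₀ := hconj_w₀ b hb
    calc b * t * a * (b * t)⁻¹ = b * (t * a * t⁻¹) * b⁻¹ := by group
      _ = b * (a * w₀) * b⁻¹ := by rw [hta]
      _ = (b * a * b⁻¹) * (b * w₀ * b⁻¹) := by group
      _ = a * w₀ * w₀ := by rw [hba, hbw]
      _ = a := by rw [mul_assoc, hW2 w₀ hw₀W, mul_one]

end Cfsg.Agent.Lib.Helper34.KS12
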